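import Mathlib

/-!
A finite group with an involution `c` is simple if the normal closure of `c` is everything, no proper
normal subgroup meets the centraliser of `c`, and `c` is not central modulo a proper normal subgroup.
-/

set_option autoImplicit false

namespace Cfsg.Agent.H45.HN

variable {G : Type*} [Group G]

/-- A fixed-point-free involution inverts a finite normal subgroup. -/
theorem inverts_of_fixed_point_free [Finite G] {c : G} (hc : c * c = 1) (N : Subgroup G)
    [N.Normal] (hN : ∀ n ∈ N, n * c = c * n → n = 1) : ∀ n ∈ N, c * n * c = n⁻¹ := by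
  have hci : c⁻¹ = c := inv_eq_of_mul_eq_one_right hc
  have hconj : ∀ n ∈ N, c * n * c ∈ N := fun n hn => by
    have h := (inferInstance : N.Normal).conj_mem n hn c
    rwa [hci] at h
  let f : N → N := fun n => ⟨(n : G)⁻¹ * (c * n * c), mul_mem (inv_mem n.2) (hconj n n.2)⟩
  have hinj : Function.Injective f := by
    rintro ⟨a, ha⟩ ⟨b, hb⟩ h
    have h' : a⁻¹ * (c * a * c) = b⁻¹ * (c * b * c) := congrArg Subtype.val h
    have h1 : b * a⁻¹ * c = c * (b * a⁻¹) :=
      calc b * a⁻¹ * c = b * (a⁻¹ * (c * a * c)) * c⁻¹ * a⁻¹ := by group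
        _ = b * (b⁻¹ * (c * b * c)) * c⁻¹ * a⁻¹ := by rw [h']
        _ = c * (b * a⁻¹) := by group
    exact Subtype.ext (mul_inv_eq_one.1 (hN _ (mul_mem hb (inv_mem ha)) h1)).symm
  intro n hn
  obtain ⟨⟨a, ha⟩, h⟩ := Finite.surjective_of_injective hinj ⟨n, hn⟩
  have h' : a⁻¹ * (c * a * c) = n := congrArg Subtype.val h
  rw [← h', mul_inv_rev, mul_inv_rev, mul_inv_rev, inv_inv, hci]
  calc c * (a⁻¹ * (c * a * c)) * c = c * a⁻¹ * c * a * (c * c) := by group
    _ = c * (a⁻¹ * c) * a := by rw [hc, mul_one]; group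

/-- The criterion. -/
theorem simple_of_involution [Finite G] {c : G} (hc : c * c = 1) (hne : c ≠ 1)
    (hnc : ∀ N : Subgroup G, N.Normal → c ∈ N → N = ⊤)
    (hcap : ∀ N : Subgroup G, N.Normal → N ≠ ⊤ → ∀ n ∈ N, n * c = c * n → n = 1)
    (hz : ∀ M : Subgroup G, M.Normal → M ≠ ⊤ → (∀ g : G, c * (g * c * g⁻¹) ∈ M) → False) :
    IsSimpleGroup G := by
  have : Nontrivial G := ⟨c, 1, hne⟩
  refine { eq_bot_or_eq_top_of_normal := fun N hN => ?_ }
  by_contra h
  push Not at h
  have hN' : N.Normal := hN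
  have hinv := inverts_of_fixed_point_free hc N (hcap N hN h.2)
  have hci : c⁻¹ = c := inv_eq_of_mul_eq_one_right hc
  refine hz (Subgroup.centralizer (N : Set G)) inferInstance (fun hC => h.1 ?_) fun g => ?_
  · rw [Subgroup.eq_bot_iff_forall]
    intro n hn
    exact hcap N hN h.2 n hn (Subgroup.mem_centralizer_iff.1 (hC ▸ Subgroup.mem_top c) n hn)
  · rw [Subgroup.mem_centralizer_iff]
    intro n hn
    have hg : g⁻¹ * n * g ∈ N := by simpa using hN.conj_mem n hn g⁻¹
    have h1 : g * c * g⁻¹ * n * (g * c * g⁻¹) = n⁻¹ :=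
      calc g * c * g⁻¹ * n * (g * c * g⁻¹) = g * (c * (g⁻¹ * n * g) * c) * g⁻¹ := by group
        _ = g * (g⁻¹ * n * g)⁻¹ * g⁻¹ := by rw [hinv _ hg]
        _ = n⁻¹ := by group
    have hd : (g * c * g⁻¹)⁻¹ = g * c * g⁻¹ := by rw [mul_inv_rev, mul_inv_rev, inv_inv, hci]; group
    symm
    rw [← mul_inv_eq_iff_eq_mul]
    calc c * (g * c * g⁻¹) * n * (c * (g * c * g⁻¹))⁻¹
        = c * ((g * c * g⁻¹) * n * (g * c * g⁻¹)⁻¹) * c⁻¹ := by group
      _ = c * n⁻¹ * c := by rw [hd, h1, hci]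
      _ = n := by rw [hinv _ (inv_mem hn), inv_inv]

end Cfsg.Agent.H45.HN
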