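import Cfsg.Agent.H45.HN.Crit
import Cfsg.Agent.H67.HN.Inj
import Cfsg.Agent.H87.HNOut.Model
import Cfsg.Prelude.Def_Sporadic

/-!
Simplicity of presented `HN` from finiteness and the fourteen double cosets.
-/

set_option autoImplicit false
set_option maxRecDepth 100000

open scoped commutatorElement

namespace Cfsg.Agent.H45.HN

open Cfsg Cfsg.Spor
open Cfsg.Agent.H67.HN (F gx gy gz nu nu_injective rep100 card_F x2_central x4_F)
open Cfsg.Agent.H87.HNOut

/-- A normal subgroup of the model that misses `gx ^ 2` is trivial. -/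
theorem normal_F_bot (N : Subgroup F) [hN : N.Normal] (hc : gx ^ 2 ∉ N) : N = ⊥ := by
  have := H67.HN.isSimple_hsE
  have hzx : ∀ a : F, rep100 a = 1 → a ∈ N → a = 1 := by
    intro a ha haN
    rcases rep100_ker card_F a ha with h | h
    · exact h
    · exact absurd (h ▸ haN) hc
  have hcap : ∀ a : F, a ∈ H67.HN.D → a ∈ N → a = 1 := by
    rcases (Subgroup.Normal.map (inferInstance : (N.comap H67.HN.D.subtype).Normal) H67.HN.rho
      H67.HN.rho_surjective).eq_bot_or_eq_top with h | h
    · intro a hD hN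
      exact hzx a (congrArg Subtype.val
        (MonoidHom.mem_ker.1 ((Subgroup.map_eq_bot_iff _).1 h (x := ⟨a, hD⟩) hN))) hN
    · exfalso
      have hsup : N.comap H67.HN.D.subtype ⊔ H67.HN.rho.ker = ⊤ := by
        rw [← Subgroup.comap_map_eq, h, Subgroup.comap_top]
      have hle : commutator H67.HN.D ≤ N.comap H67.HN.D.subtype := by
        rw [commutator_def, Subgroup.commutator_le]
        intro a _ b _
        obtain ⟨u, hu, v, hv, rfl⟩ :=
          Subgroup.mem_sup_of_normal_left.mp (hsup ▸ Subgroup.mem_top a)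
        obtain ⟨u', hu', v', -, rfl⟩ :=
          Subgroup.mem_sup_of_normal_left.mp (hsup ▸ Subgroup.mem_top b)
        let q := QuotientGroup.mk' (N.comap H67.HN.D.subtype)
        refine (QuotientGroup.eq_one_iff _).mp ?_
        show q _ = 1
        rw [map_commutatorElement, commutatorElement_eq_one_iff_mul_comm, map_mul, map_mul,
          show q u = 1 from (QuotientGroup.eq_one_iff u).mpr hu,
          show q u' = 1 from (QuotientGroup.eq_one_iff u').mpr hu', one_mul, one_mul, ← map_mul,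
          ← map_mul, Subgroup.mem_center_iff.mp (H67.HN.ker_central hv) v']
      rw [H67.HN.perfect_D, top_le_iff] at hle
      exact hc (show H67.HN.c ∈ N.comap H67.HN.D.subtype from hle ▸ Subgroup.mem_top _)
  rw [Subgroup.eq_bot_iff_forall]
  intro a ha
  refine hzx a (H67.HN.centralizer_trivial fun f => ?_) ha
  have h1 : f * a * f⁻¹ * a⁻¹ = 1 := by
    refine hcap _ ?_ (N.mul_mem (hN.conj_mem a ha f) (N.inv_mem ha))
    rw [← commutatorElement_def]
    exact Subgroup.commutator_mem_commutator (Subgroup.mem_top f) (Subgroup.mem_top a)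
  have h2 : f * a = a * f := by rwa [mul_inv_eq_one, mul_inv_eq_iff_eq_mul] at h1
  show rep100 f * rep100 a = rep100 a * rep100 f
  rw [← map_mul, h2, map_mul]

theorem csq : gX ^ 2 * gX ^ 2 = 1 := by
  rw [← nu_gx, ← pow_add, ← map_pow, x4_F, map_one]

theorem ccent (h : Spor.HN) (hh : h ∈ HH) : gX ^ 2 * h = h * gX ^ 2 := by
  rw [← nu_range_HH] at hh
  obtain ⟨f, rfl⟩ := hh
  rw [← nu_gx, ← map_pow, ← map_mul, ← map_mul,
    Subgroup.mem_center_iff.1 x2_central f]

/-- The order of `⟨x, y, z⟩`. -/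
theorem card_HH : Nat.card HH = 177408000 := by
  rw [← nu_range_HH, ← Nat.card_congr (MonoidHom.ofInjective nu_injective).toEquiv, card_F]

/-- The index of `⟨x, y, z⟩` from the order of the group. -/
theorem index_HH (hcard : Nat.card Spor.HN = 273030912000000) : HH.index = 1539000 := by
  have h := HH.card_mul_index
  rw [card_HH, hcard] at h
  omega

section

variable (hdec : ∀ g : Spor.HN, ∃ h ∈ HH, ∃ j < 14, ∃ (i : ℕ), ∃ w ∈
    Subgroup.closure ({gX, gY} : Set Spor.HN), g = h * rep j * gT ^ i * w)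
include hdec

/-- The centraliser of the central involution of `⟨x, y, z⟩`. -/
theorem cent_c : ∀ g, g * gX ^ 2 = gX ^ 2 * g → g ∈ HH := by
  intro g hg
  obtain ⟨h, hh, j, hj, i, w, hw, rfl⟩ := hdec g
  have hhc : Commute h (gX ^ 2) := (ccent h hh).symm
  have hwc : Commute w (gX ^ 2) := (ccent w (xy_le_HH hw)).symm
  have hm : Commute (rep j * gT ^ i) (gX ^ 2) := by
    have e : rep j * gT ^ i = h⁻¹ * (h * rep j * gT ^ i * w) * w⁻¹ := by group
    rw [e]
    exact (hhc.inv_left.mul_left hg).mul_left hwc.inv_left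
  rcases Nat.eq_zero_or_pos j with rfl | hpos
  · rw [rep_zero, one_mul] at hm
    have e : gT ^ (4 * i) = gT ^ i := by
      rw [← conj_c csq, mul_assoc, hm.eq, ← mul_assoc, csq, one_mul]
    have h0 : i % 5 = 0 := by
      rw [pow_eq_pow_mod (4 * i) tfive, pow_eq_pow_mod i tfive] at e
      have ho : orderOf gT = 5 := by
        have := Fact.mk (show Nat.Prime 5 by norm_num)
        exact orderOf_eq_prime tfive misc.2.2.1
      have := pow_injOn_Iio_orderOf (x := gT) (by simp [ho]; omega) (by simp [ho]; omega) e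
      omega
    rw [pow_eq_pow_mod i tfive, h0, pow_zero, mul_one, rep_zero, mul_one]
    exact mul_mem hh (xy_le_HH hw)
  · exfalso
    apply repA hpos hj (i + i)
    have e : gT ^ i * gX ^ 2 = (rep j)⁻¹ * gX ^ 2 * rep j * gT ^ i :=
      calc gT ^ i * gX ^ 2 = (rep j)⁻¹ * (rep j * gT ^ i * gX ^ 2) := by group
        _ = _ := by rw [hm.eq]; group
    calc (rep j)⁻¹ * gX ^ 2 * rep j * gX ^ 2
        = gT ^ i * (gX ^ 2 * (gT ^ i)⁻¹ * gX ^ 2) := by
          rw [← mul_assoc, ← mul_assoc, e]; group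
      _ = gT ^ i * gT ^ i := by
          congr 1
          have h4 : (gT ^ i)⁻¹ = gT ^ (4 * i) :=
            inv_eq_of_mul_eq_one_right (by
              rw [← pow_add, show i + 4 * i = 5 * i by ring, pow_mul, tfive, one_pow])
          rw [h4, conj_c csq, ← mul_assoc, show 4 * 4 * i = i + 5 * (3 * i) by ring, pow_add,
            pow_mul gT 5, tfive, one_pow, mul_one]
      _ = gT ^ (i + i) := (pow_add _ _ _).symm

end

/-- The normal closure of the involution is the whole group. -/
theorem normal_eq_top (N : Subgroup Spor.HN) [N.Normal] (h : gX ^ 2 ∈ N) : N = ⊤ := by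
  let q := QuotientGroup.mk' N
  have hc : q gX ^ 2 = 1 := by
    rw [← map_pow]; exact (QuotientGroup.eq_one_iff _).2 h
  have hxi : (q gX)⁻¹ = q gX := inv_eq_of_mul_eq_one_right (by rw [← sq, hc])
  have ht5 : q gT ^ 5 = 1 := by rw [← map_pow, tfive, map_one]
  have ht : q gT = 1 := by
    have h3 : (q gX)⁻¹ * q gT * q gX = q gT ^ 3 := by
      rw [← map_inv, ← map_mul, ← map_mul, txc, map_pow]
    have h4 : (q gX)⁻¹ * q gT ^ 3 * q gX = q gT ^ 9 := by
      have := map_pow (MulAut.conj (q gX)⁻¹) (q gT) 3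
      simp only [MulAut.conj_apply, inv_inv] at this
      rw [this, h3, ← pow_mul]
    have h5 : (q gX)⁻¹ * q gT ^ 3 * q gX = q gT := by
      rw [← h3, hxi]
      calc q gX * (q gX * q gT * q gX) * q gX = q gX ^ 2 * q gT * q gX ^ 2 := by
            rw [sq]; group
        _ = q gT := by rw [hc, one_mul, mul_one]
    rw [h5, pow_eq_pow_mod 9 ht5] at h4
    have h6 : q gT ^ 3 = 1 := by
      have : q gT * q gT ^ 3 = q gT * 1 := by rw [← pow_succ', mul_one, ← h4]
      exact mul_left_cancel this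
    calc q gT = (q gT ^ 3) ^ 2 := by
          rw [← pow_mul, pow_eq_pow_mod (3 * 2) ht5]; norm_num
      _ = 1 := by rw [h6, one_pow]
  have hz2 : q gZ * q gZ = 1 := by rw [← map_mul, zsq, map_one]
  have hz : q gZ = 1 := by
    have h3 := congrArg q zt_cube
    rw [map_pow, map_mul, ht, mul_one, map_one, pow_succ, sq, hz2, one_mul] at h3
    exact h3
  obtain ⟨hx, hy⟩ : q gX = 1 ∧ q gY = 1 := by
    have hR := H67.HN.rels_HN.map q
    change H67.HN.Rels (q gX) (q gY) (q gZ) at hR
    have hj := hR.j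
    rw [hz] at hj
    have hx3 : q gX ^ 3 = 1 := by rwa [one_mul, mul_one, inv_mul_cancel, one_mul] at hj
    have hx : q gX = 1 := by rwa [pow_succ, hc, one_mul] at hx3
    refine ⟨hx, ?_⟩
    have hd := hR.d
    have h8 := hR.xy8
    rw [hx] at hd h8
    rw [one_mul] at h8
    have h15 : q gY ^ 15 = 1 := by
      simpa [← pow_add, ← pow_mul] using hd
    calc q gY = q gY ^ (15 * 7) * (q gY ^ 8)⁻¹ ^ 13 := by
          rw [show (15 * 7 : ℕ) = 1 + 8 * 13 from rfl, pow_add, pow_one, pow_mul, inv_pow,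
            mul_inv_cancel_right]
      _ = 1 := by rw [pow_mul, h15, h8]; simp
  rw [eq_top_iff, ← gen_top, Subgroup.closure_le]
  intro g hg
  apply (QuotientGroup.eq_one_iff g).1
  simp only [Set.mem_insert_iff, Set.mem_singleton_iff] at hg
  rcases hg with rfl | rfl | rfl | rfl
  exacts [hx, hy, hz, ht]

/-- Simplicity. -/
theorem isSimple [Finite Spor.HN]
    (hdec : ∀ g : Spor.HN, ∃ h ∈ HH, ∃ j < 14, ∃ (i : ℕ), ∃ w ∈
      Subgroup.closure ({gX, gY} : Set Spor.HN), g = h * rep j * gT ^ i * w) :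
    IsSimpleGroup Spor.HN := by
  have hcap : ∀ N : Subgroup Spor.HN, N.Normal → N ≠ ⊤ →
      ∀ n ∈ N, n * gX ^ 2 = gX ^ 2 * n → n = 1 := by
    intro N hN hne n hn hc
    have hn' := cent_c hdec n hc
    rw [← nu_range_HH] at hn'
    obtain ⟨f, rfl⟩ := hn'
    have h := normal_F_bot (N.comap nu) (fun h => hne (normal_eq_top N (by
      rw [← nu_gx, ← map_pow]; exact h)))
    have hf : f ∈ N.comap nu := hn
    rw [h, Subgroup.mem_bot] at hf
    rw [hf, map_one]
  refine simple_of_involution csq misc.2.2.2.1 (fun N hN h => normal_eq_top N h) hcap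
    fun M hM hne hall => ?_
  have h4 : gT ^ 4 * gT⁻¹ ∈ M := by
    have e : gX ^ 2 * (gT * gX ^ 2 * gT⁻¹) = gT ^ 4 * gT⁻¹ := by
      have := conj_c csq 1
      rw [pow_one, mul_one] at this
      rw [← this]; group
    exact e ▸ hall gT
  have ht : gT ∈ M := by
    have e : gT = (gT ^ 4 * gT⁻¹) ^ 2 := by
      rw [show gT ^ 4 * gT⁻¹ = gT ^ 3 by group, ← pow_mul, pow_eq_pow_mod (3 * 2) tfive]
      norm_num
    rw [e]
    exact pow_mem h4 2
  have hz : gZ ∈ M := by
    let q := QuotientGroup.mk' M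
    have hqt : q gT = 1 := (QuotientGroup.eq_one_iff _).2 ht
    have h3 := congrArg q zt_cube
    have hz2 : q gZ * q gZ = 1 := by rw [← map_mul, zsq, map_one]
    rw [map_pow, map_mul, hqt, mul_one, map_one, pow_succ, sq, hz2, one_mul] at h3
    exact (QuotientGroup.eq_one_iff _).1 h3
  have h1 : gZ = 1 := hcap M hM hne gZ hz (ccent gZ (Subgroup.subset_closure (by simp))).symm
  have h3 := zt_cube
  rw [h1, one_mul] at h3
  apply misc.2.2.1
  calc gT = (gT ^ 3) ^ 2 := by rw [← pow_mul, pow_eq_pow_mod (3 * 2) tfive]; norm_num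
    _ = 1 := by rw [h3, one_pow]

/-- The presented group is `HN`, from finiteness, the order and the double cosets. -/
theorem isHN (hfin : Finite Spor.HN) (hcard : Nat.card Spor.HN = 273030912000000)
    (hdec : ∀ g : Spor.HN, ∃ h ∈ HH, ∃ j < 14, ∃ (i : ℕ), ∃ w ∈
      Subgroup.closure ({gX, gY} : Set Spor.HN), g = h * rep j * gT ^ i * w) :
    Cfsg.IsHN Spor.HN :=
  ⟨isSimple hdec, hcard⟩

/-- The index in the form of the statement. -/
theorem index_map (hcard : Nat.card Spor.HN = 273030912000000) :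
    ((Subgroup.closure ({HN.x, HN.y, HN.z} : Set (FreeGroup HN.Gen))).map mkHN).index = 1539000 := by
  rw [map_closure_eq]
  exact index_HH hcard

end Cfsg.Agent.H45.HN
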