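import Cfsg.Agent.H16.HN.Lower
import Cfsg.Agent.H45.HN.Simple

/-!
The order of presented `HN` from finiteness and the bound `1539000` on the cosets of `⟨x, y, z⟩`.
-/

set_option autoImplicit false

namespace Cfsg.Agent.H45.HN

open Cfsg Cfsg.Spor
open Cfsg.Agent.H87.HNOut

/-- The order. -/
theorem card_HN [Finite Spor.HN] (hle : HH.index ≤ 1539000) :
    Nat.card Spor.HN = 273030912000000 := by
  have hpos : 0 < Nat.card Spor.HN := Nat.card_pos
  have h1 := Nat.le_of_dvd hpos Cfsg.Agent.H16.HN.card_dvd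
  have h2 := HH.card_mul_index
  rw [card_HH] at h2
  omega

end Cfsg.Agent.H45.HN
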